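import Mathlib
import Cfsg.Agent.H229.RIM.Defs
import Cfsg.Agent.H586.GW.Rel
import Cfsg.Agent.H586.GW.Good
import Cfsg.Agent.H57.RIM.Psl

/-!
# S4816, case B, field automorphisms of `PSL(2, F)` (`RowOut` for `E / Z(E) = PSL(2, F)`)

`p` an odd prime, `F` finite of odd characteristic, `E` normal in `G`, `E` perfect with `E / Z(E) = PSL(2, F)`, `p` divides
`|G : E C_G(E)|`. If all irreducible characters of `E` over `φ` had a stabilizer of index prime to `p` then (as `Out PSL(2, F)` is
abelian) every `p`-element `g` of `G` fixes all of them, so it fixes the class of the (good) element which lifts `diag(a, a⁻¹)`, `a` a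
generator of `Fˣ` (`good_conj`), so `g` induces an inner automorphism.
-/

set_option autoImplicit false
set_option linter.unusedSectionVars false

open Cfsg

namespace Cfsg.Agent.H57.RIM

open Cfsg.Agent.H672 Cfsg.Agent.H586.GW Cfsg.Agent.H229.RIM
open Cfsg.Agent.ClassicalGeometry.AutPSL.Root (pr pr_surjective)
open scoped commutatorElement

universe u v

/-- the automorphism induced modulo the centre -/
def qz (X : Type*) [Group X] : MulAut X →* MulAut (X ⧸ Subgroup.center X) where
  toFun a := QuotientGroup.congr _ _ a (Subgroup.characteristic_iff_map_eq.1 inferInstance a)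
  map_one' := by
    apply MulEquiv.ext
    intro x
    obtain ⟨x, rfl⟩ := QuotientGroup.mk_surjective x
    rfl
  map_mul' a b := by
    apply MulEquiv.ext
    intro x
    obtain ⟨x, rfl⟩ := QuotientGroup.mk_surjective x
    rfl

theorem qz_mk {X : Type*} [Group X] (a : MulAut X) (x : X) :
    qz X a (x : X ⧸ Subgroup.center X) = ((a x : X) : X ⧸ Subgroup.center X) := rfl

/-- an automorphism of a perfect group which is trivial modulo the centre is trivial -/
theorem eq_of_qz {X : Type*} [Group X] (hX : commutator X = ⊤) {a : MulAut X}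
    (h : ∀ x : X, ((a x : X) : X ⧸ Subgroup.center X) = x) : ∀ x, a x = x := by
  have h1 : ∀ x : X, a x * x⁻¹ ∈ Subgroup.center X := by
    intro x
    have h3 := QuotientGroup.eq.1 (h x).symm
    have h4 := (inferInstance : (Subgroup.center X).Normal).conj_mem _ h3 x
    rwa [mul_inv_cancel_left] at h4
  obtain ⟨f, hf⟩ : ∃ f : X →* X, ∀ x, f x = a x * x⁻¹ := by
    refine ⟨MonoidHom.mk' (fun x => a x * x⁻¹) ?_, fun x => rfl⟩
    intro x y
    have h2 := Subgroup.mem_center_iff.1 (h1 y) x⁻¹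
    calc a (x * y) * (x * y)⁻¹ = a x * (a y * y⁻¹ * x⁻¹) := by
          rw [map_mul, mul_inv_rev]; simp only [mul_assoc]
      _ = a x * (x⁻¹ * (a y * y⁻¹)) := by rw [h2]
      _ = _ := by simp only [mul_assoc]
  have h2 : commutator X ≤ f.ker := by
    rw [commutator_def, Subgroup.commutator_le]
    intro x _ y _
    rw [MonoidHom.mem_ker, map_commutatorElement, commutatorElement_eq_one_iff_mul_comm, hf y]
    exact Subgroup.mem_center_iff.1 (h1 y) _
  intro x
  rw [hX] at h2
  have h3 : f x = 1 := h2 (Subgroup.mem_top x)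
  rw [hf] at h3
  exact mul_inv_eq_one.1 h3

section

variable {G : Type u} [Group G] [Finite G] (E : Subgroup G) [hEn : E.Normal]
  {F : Type v} [Field F] [Finite F]
  (e : (E ⧸ Subgroup.center E) ≃* Matrix.ProjectiveSpecialLinearGroup (Fin 2) F)

/-- the projection -/
def pj : E →* Matrix.ProjectiveSpecialLinearGroup (Fin 2) F :=
  e.toMonoidHom.comp (QuotientGroup.mk' (Subgroup.center E))

theorem pj_surj : Function.Surjective (pj E e) :=
  e.surjective.comp (QuotientGroup.mk'_surjective _)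

theorem pj_eq {x y : E} (h : pj E e x = pj E e y) : ∃ z ∈ Subgroup.center E, y = x * z := by
  have h1 : (x : E ⧸ Subgroup.center E) = y := e.injective h
  exact ⟨x⁻¹ * y, QuotientGroup.eq.1 h1, by group⟩

/-- the action on `PSL(2, F)` -/
def act : G →* MulAut (Matrix.ProjectiveSpecialLinearGroup (Fin 2) F) :=
  (MulAut.congr e).toMonoidHom.comp ((qz E).comp MulAut.conjNormal)

theorem act_pj (g : G) (x : E) : act E e g (pj E e x) = pj E e (MulAut.conjNormal g x) := by
  change e (qz E (MulAut.conjNormal g) (e.symm (e (x : E ⧸ Subgroup.center E)))) = _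
  rw [MulEquiv.symm_apply_apply]
  rfl

theorem mem_cent_of_act (hE : commutator E = ⊤) {g : G} (h : act E e g = 1) :
    g ∈ Subgroup.centralizer (E : Set G) := by
  have h1 : ∀ x : E, ((MulAut.conjNormal g x : E) : E ⧸ Subgroup.center E) = x := by
    intro x
    apply e.injective
    have h5 := act_pj E e g x
    rw [h, MulAut.one_apply] at h5
    exact h5.symm
  have h2 := eq_of_qz hE h1
  rw [Subgroup.mem_centralizer_iff]
  intro x hx
  have h3 := congrArg Subtype.val (h2 ⟨x, hx⟩)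
  rw [MulAut.conjNormal_apply] at h3
  have h4 : g * x * g⁻¹ = x := h3
  rw [mul_inv_eq_iff_eq_mul] at h4
  exact h4.symm

theorem act_coe (x : E) : act E e (x : G) = MulAut.conj (pj E e x) := by
  apply MulEquiv.ext
  intro y
  obtain ⟨y, rfl⟩ := pj_surj E e y
  rw [act_pj, MulAut.conj_apply, ← map_inv, ← map_mul, ← map_mul]
  congr 1

theorem mem_of_inner (hE : commutator E = ⊤) {g : G} (h : ∃ z, act E e g = MulAut.conj z) :
    g ∈ E ⊔ Subgroup.centralizer (E : Set G) := by
  obtain ⟨z, hz⟩ := h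
  obtain ⟨x, rfl⟩ := pj_surj E e z
  have h1 : act E e (g * (x : G)⁻¹) = 1 := by
    rw [map_mul, map_inv, act_coe, hz, mul_inv_cancel]
  have h2 := mem_cent_of_act E e hE h1
  have h3 : g = (g * (x : G)⁻¹) * x := by group
  rw [h3]
  exact Subgroup.mul_mem _ (Subgroup.mem_sup_right h2) (Subgroup.mem_sup_left x.2)

include e in
theorem comm_mem (hE : commutator E = ⊤) (h2 : (2 : F) ≠ 0) (g h : G) :
    g * h * (h * g)⁻¹ ∈ E ⊔ Subgroup.centralizer (E : Set G) := by
  apply mem_of_inner E e hE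
  rw [map_mul, map_mul, map_inv, map_mul]
  exact comm_inner h2 _ _

include e in
/-- **`RowOut` for `PSL(2, F)`**, general form. -/
theorem rowOut_core {p : ℕ} (hp : p.Prime) (hp2 : p ≠ 2) (h2 : (2 : F) ≠ 0) (hE : commutator E = ⊤)
    (N : Subgroup E) (φ : N →* ℂˣ) (hNc : N ≤ Subgroup.center E) (hφ : Function.Injective φ)
    (hN : ∀ n : E, n ∈ N → (n : G) ∈ Subgroup.center G)
    (hd : p ∣ (E ⊔ Subgroup.centralizer (E : Set G)).index) :
    ∃ ψ : E → ℂ, IsIrrCharacter E ψ ∧ (∀ n : N, ψ n = ψ 1 * φ n) ∧ p ∣ (inertia E ψ).index := by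
  classical
  let _ := Fintype.ofFinite E
  have hpf : Fact p.Prime := ⟨hp⟩
  by_contra hcon
  push Not at hcon
  set D := E ⊔ Subgroup.centralizer (E : Set G) with hD
  -- a `p`-element outside `D`
  obtain ⟨P⟩ : Nonempty (Sylow p G) := inferInstance
  obtain ⟨g, hgP, hgD⟩ : ∃ g ∈ (P : Subgroup G), g ∉ D := by
    by_contra hno
    push Not at hno
    have h1 : (P : Subgroup G) ≤ D := hno
    exact P.not_dvd_index (hd.trans (Subgroup.index_dvd_of_le h1))
  obtain ⟨k, hk⟩ : ∃ k : ℕ, g ^ p ^ k = 1 := by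
    obtain ⟨k, hk⟩ := P.isPGroup' ⟨g, hgP⟩
    exact ⟨k, congrArg Subtype.val hk⟩
  apply hgD
  -- `g` fixes all characters over `φ`
  have hfix : ∀ ψ : E → ℂ, IsIrrCharacter E ψ → (∀ n : N, ψ n = ψ 1 * φ n) → g ∈ inertia E ψ := by
    intro ψ hψ hov
    have h1 := hcon ψ hψ hov
    have hcl : IsClassFunction E ψ := Characters.Core.isIrr_isClassFunction hψ
    have hDT : D ≤ inertia E ψ := by
      rw [hD]
      refine sup_le (le_inertia hcl) ?_
      intro c hc
      rw [mem_inertia_iff]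
      intro n
      congr 1
      apply Subtype.ext
      change c * n * c⁻¹ = n
      rw [mul_inv_eq_iff_eq_mul]
      exact ((Subgroup.mem_centralizer_iff.1 hc) n n.2).symm
    obtain ⟨h, hh⟩ := exists_conj_le (⊥ : Subgroup G) hp (P := (P : Subgroup G)) (T := inertia E ψ) bot_le bot_le
      (by
        rw [Subgroup.relIndex_bot_left]
        obtain ⟨n, hn⟩ := IsPGroup.iff_card.1 P.isPGroup'
        exact ⟨n, hn⟩) h1
    have h3 := hh g hgP
    have h4 := hDT (comm_mem E e hE h2 h⁻¹ g)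
    have h5 : g = (h⁻¹ * g * (g * h⁻¹)⁻¹)⁻¹ * (h⁻¹ * g * h) := by group
    rw [h5]
    exact Subgroup.mul_mem _ (Subgroup.inv_mem _ h4) h3
  obtain ⟨a, ha0, hgen⟩ := exists_gen F
  apply mem_of_inner E e hE
  refine inner_of_class (m := p ^ k) ((hp.odd_of_ne_two hp2).pow) (by rw [← map_pow, hk, map_one]) ha0 hgen ?_
  by_cases ha1 : a ^ 2 = 1
  · exact Or.inl ha1
  by_cases ha2 : a ^ 2 = -1
  · exact Or.inr (Or.inl ha2)
  right; right
  obtain ⟨x, hx⟩ := pj_surj E e (pr (dg a ha0))
  obtain ⟨y, hy⟩ := good_conj N φ x hNc hφ (MulAut.conjNormal g) (by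
      intro n
      apply Subtype.ext
      rw [MulAut.conjNormal_apply]
      have := Subgroup.mem_center_iff.1 (hN n n.2) g
      rw [this, mul_inv_cancel_right])
    (by
      intro ψ hψ hov t
      have h1 := mem_inertia.1 (hfix ψ hψ hov)
      exact congrFun h1 t)
    (by
      intro y hy
      have h1 : pj E e y * pj E e x = pj E e x * pj E e y := by
        have h3 : pj E e ⁅x, y⁆ = 1 := by
          have h4 : (( ⁅x, y⁆ : E) : E ⧸ Subgroup.center E) = 1 := (QuotientGroup.eq_one_iff _).2 (hNc hy)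
          change e _ = 1
          rw [← map_one e]
          exact congrArg e h4
        rw [commutatorElement_def, map_mul, map_mul, map_mul, map_inv, map_inv, mul_inv_eq_one,
          mul_inv_eq_iff_eq_mul] at h3
        exact h3.symm
      rw [hx] at h1
      obtain ⟨j, hj⟩ := comm_of_comm ha0 hgen h2 ha1 ha2 h1
      rw [← hx, ← map_pow] at hj
      obtain ⟨z, hz, hy2⟩ := pj_eq E e hj.symm
      rw [commutatorElement_eq_one_iff_mul_comm, hy2]
      have hzc := Subgroup.mem_center_iff.1 hz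
      rw [mul_assoc, ← hzc x, ← mul_assoc, ← mul_assoc, ← pow_succ, ← pow_succ'])
  refine ⟨pj E e y, ?_⟩
  rw [← hx, act_pj, hy, map_mul, map_mul, map_inv]

end

/-- **`RowOut` for `PSL(2, F)`**, `F` finite of odd characteristic. -/
theorem rowOut_psl2 {p : ℕ} (hp : p.Prime) {F : Type v} [Field F] [Finite F] (h2 : (2 : F) ≠ 0)
    {G : Type u} [Group G] [Finite G] (E : Subgroup G) (N : Subgroup E) (φ : N →* ℂˣ) (hE : E.Normal)
    (hQ : QBad p N φ) (hN : ∀ n : E, n ∈ N → (n : G) ∈ Subgroup.center G)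
    (e : Nonempty ((E ⧸ Subgroup.center E) ≃* Matrix.ProjectiveSpecialLinearGroup (Fin 2) F))
    (hd : p ∣ (E ⊔ Subgroup.centralizer (E : Set G)).index) :
    ∃ ψ : E → ℂ, IsIrrCharacter E ψ ∧ (∀ n : N, ψ n = ψ 1 * φ n) ∧
      ∀ T : Subgroup G, (∀ g ∈ T, ∀ (x y : E), (y : G) = g * x * g⁻¹ → ψ y = ψ x) → p ∣ T.index := by
  obtain ⟨e⟩ := e
  obtain ⟨ψ, h1, h3, h4⟩ := rowOut_core E e hp hQ.odd h2 hQ.perf N φ hQ.cen hQ.inj hN hd
  refine ⟨ψ, h1, h3, fun T hT => h4.trans (Subgroup.index_dvd_of_le ?_)⟩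
  intro g hg
  rw [mem_inertia_iff]
  intro n
  exact hT g hg n _ rfl

/-- the same with the characteristic `p` -/
theorem rowOut_psl2_char {p : ℕ} (hp : p.Prime) {F : Type v} [Field F] [Finite F] [CharP F p]
    {G : Type u} [Group G] [Finite G] (E : Subgroup G) (N : Subgroup E) (φ : N →* ℂˣ) (hE : E.Normal)
    (hQ : QBad p N φ) (hN : ∀ n : E, n ∈ N → (n : G) ∈ Subgroup.center G)
    (e : Nonempty ((E ⧸ Subgroup.center E) ≃* Matrix.ProjectiveSpecialLinearGroup (Fin 2) F))
    (hd : p ∣ (E ⊔ Subgroup.centralizer (E : Set G)).index) :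
    ∃ ψ : E → ℂ, IsIrrCharacter E ψ ∧ (∀ n : N, ψ n = ψ 1 * φ n) ∧
      ∀ T : Subgroup G, (∀ g ∈ T, ∀ (x y : E), (y : G) = g * x * g⁻¹ → ψ y = ψ x) → p ∣ T.index := by
  refine rowOut_psl2 hp (F := F) ?_ E N φ hE hQ hN e hd
  intro h
  have h1 : ((2 : ℕ) : F) = 0 := by exact_mod_cast h
  have h3 := (CharP.cast_eq_zero_iff F p 2).1 h1
  exact hQ.odd ((Nat.prime_dvd_prime_iff_eq hp Nat.prime_two).1 h3)

end Cfsg.Agent.H57.RIM
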