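import Cfsg.Agent.H306.RIM.JThree
import Cfsg.Agent.H57.RIM.DzTwo

/-!
# S4816: the row `J3`, `p = 5` (helper57)

`C(y) = 5 × S3`; the complement has 3 classes, so at most 12 characters of full defect over a faithful character of the
center of `3.J3`; 14 classes are good (orders prime to 3, and the two self-centralizing classes of elements of order 15).
-/

set_option autoImplicit false

namespace Cfsg.Agent.H57.RIM.JThreeFive

open Cfsg Subgroup Cfsg.Agent.H665.RIM Cfsg.Agent.H306.RIM

universe u

variable {S : Type u} [Group S]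

/-- **`J3`, `p = 5`** -/
theorem nball_five [Finite S] (h : Spor.IsoJ3 S) : NBall 5 S := by
  have hcard := (Cfsg.Agent.H898.J3Cent.base h).2.1
  have f2 : Fact (Nat.Prime 2) := ⟨Nat.prime_two⟩
  have f3 : Fact (Nat.Prime 3) := ⟨Nat.prime_three⟩
  have f5 : Fact (Nat.Prime 5) := ⟨by norm_num⟩
  obtain ⟨g, ho, hg⟩ := Cfsg.Agent.H306.RIM.JThree.exists_elts h
  obtain ⟨y, hy⟩ := exists_prime_orderOf_dvd_card' (G := S) 5 (by rw [hcard]; norm_num)
  have hC := Cfsg.Agent.H153.RM.j3_five h hy
  -- the normalizer
  obtain ⟨hN, hc2⟩ : Nat.card (normalizer ((zpowers y : Subgroup S) : Set S)) = 2 * (5 * 6) ∧ ¬ IsConj y (y ^ 2) := by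
    obtain ⟨e, he, hN, hi, hc⟩ := H306.QA.exists_card_normalizer' Nat.prime_five hy (by rw [hcard]; norm_num)
    have he' : e ≤ 4 := Nat.le_of_dvd (by norm_num) he
    rw [hC, hcard] at hc
    set s := (normalizer ((zpowers y : Subgroup S) : Set S)).index with hs
    have h2 : e * s = 1674432 := by
      have h4 : 30 * (e * s) = 50232960 := by rw [← hc]; ring
      omega
    have h3 : (e * (s % 5)) % 5 = 2 := by rw [Nat.mul_mod_mod, h2]
    rw [hi, mul_one] at h3
    have h4 : e = 2 := by omega
    subst h4
    refine ⟨?_, not_conj hy (e := 2) hN (by norm_num)⟩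
    rw [hN, hC]
  -- elements of order 3 and 2 in the centralizer
  have hnc : ∀ a b : S, orderOf a = 3 → orderOf b = 2 → Commute a y → Commute b y → ¬ Commute a b := by
    intro a b ha hb hay hby hab
    apply H724.IMJThree.no_thirty h (a * b * y)
    have h1 : orderOf (a * b) = 6 := by
      rw [hab.orderOf_mul_eq_mul_orderOf_of_coprime (by rw [ha, hb]; norm_num), ha, hb]
    rw [(hay.mul_left hby).orderOf_mul_eq_mul_orderOf_of_coprime (by rw [h1, hy]; norm_num), h1, hy]
  obtain ⟨⟨t, ht⟩, hto⟩ := exists_prime_orderOf_dvd_card' (G := centralizer ({y} : Set S)) 3 (by rw [hC]; norm_num)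
  rw [Subgroup.orderOf_mk] at hto
  have hty : Commute t y := mem_centralizer_singleton_iff.1 ht
  -- self-centralizing elements of order 15
  have h15 : ∀ i : ℕ, orderOf (y ^ i) = 5 → orderOf (t * y ^ i) = 15 ∧
      centralizer ({t * y ^ i} : Set S) ≤ zpowers (t * y ^ i) := by
    intro i hi
    have hc : Commute t (y ^ i) := hty.pow_right i
    have h1 : orderOf (t * y ^ i) = 15 := by
      rw [hc.orderOf_mul_eq_mul_orderOf_of_coprime (by rw [hto, hi]; norm_num), hto, hi]
    refine ⟨h1, ?_⟩
    set x := t * y ^ i with hx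
    -- `y` is a power of `x`
    have hyx : y ∈ zpowers x := by
      have h2 : y ^ i ∈ zpowers x := by
        have h3 : x ^ 6 = y ^ i := by
          have h4 : t ^ 6 = 1 := orderOf_dvd_iff_pow_eq_one.1 (by rw [hto]; norm_num)
          have h5 : (y ^ i) ^ 5 = 1 := orderOf_dvd_iff_pow_eq_one.1 (by rw [hi])
          rw [hx, hc.mul_pow, h4, one_mul, show 6 = 5 + 1 from rfl, pow_succ, h5, one_mul]
        rw [← h3]
        exact pow_mem (mem_zpowers x) 6
      have h3 : zpowers (y ^ i) = zpowers y := by
        apply eq_of_le_of_card_ge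
        · rw [zpowers_le]
          exact pow_mem (mem_zpowers y) i
        · rw [Nat.card_zpowers, Nat.card_zpowers, hi, hy]
      have h4 : y ∈ zpowers (y ^ i) := by rw [h3]; exact mem_zpowers y
      exact (zpowers_le.2 h2) h4
    have hCx : centralizer ({x} : Set S) ≤ centralizer ({y} : Set S) := by
      intro w hw
      rw [mem_centralizer_singleton_iff] at hw ⊢
      obtain ⟨k, hk⟩ := mem_zpowers_iff.1 hyx
      rw [← hk]
      exact (show Commute w x from hw).zpow_right k
    have hzx : zpowers x ≤ centralizer ({x} : Set S) := by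
      rw [zpowers_le]
      exact mem_centralizer_singleton_iff.2 rfl
    have h2 : Nat.card (centralizer ({x} : Set S)) ∣ 30 := by
      rw [← hC]
      exact card_dvd_of_le hCx
    have h3 : 15 ∣ Nat.card (centralizer ({x} : Set S)) := by
      rw [← h1, ← Nat.card_zpowers]
      exact card_dvd_of_le hzx
    have h4 : ¬ 2 ∣ Nat.card (centralizer ({x} : Set S)) := by
      intro h5
      obtain ⟨⟨b, hb⟩, hbo⟩ := exists_prime_orderOf_dvd_card' (G := centralizer ({x} : Set S)) 2 h5
      rw [Subgroup.orderOf_mk] at hbo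
      have hby : Commute b y := mem_centralizer_singleton_iff.1 (hCx hb)
      have hbx : Commute b x := mem_centralizer_singleton_iff.1 hb
      refine hnc t b hto hbo hty hby ?_
      have h6 : t = x * (y ^ i)⁻¹ := by rw [hx]; group
      rw [h6]
      exact (hbx.mul_right (hby.pow_right i).inv_right).symm
    have h5 : Nat.card (centralizer ({x} : Set S)) = 15 := by
      obtain ⟨k, hk⟩ := h3
      rw [hk] at h2 h4 ⊢
      have h6 : k ∣ 2 := Nat.dvd_of_mul_dvd_mul_left (show 0 < 15 by norm_num) h2
      rcases (Nat.dvd_prime Nat.prime_two).1 h6 with rfl | rfl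
      · rfl
      · exact absurd (by norm_num) h4
    have h6 : zpowers x = centralizer ({x} : Set S) := by
      apply eq_of_le_of_card_ge hzx
      rw [h5, Nat.card_zpowers, h1]
    rw [← h6]
  obtain ⟨ho15, hc15⟩ := h15 1 (by rw [pow_one]; exact hy)
  set x := t * y ^ 1 with hx
  -- the classes
  have ne : ∀ i, orderOf x ≠ orderOf (g i) := by
    intro i
    rw [ho15, ho]
    revert i
    decide
  -- the complement has 3 classes
  have hk : ∀ H : Subgroup S, H ≤ centralizer ({y} : Set S) → Nat.card H = 6 → Nat.card (ConjClasses H) ≤ 3 := by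
    intro H hH hc
    refine card_conj_six hc ?_
    obtain ⟨a, ha⟩ := exists_prime_orderOf_dvd_card' (G := H) 3 (by rw [hc]; norm_num)
    obtain ⟨b, hb⟩ := exists_prime_orderOf_dvd_card' (G := H) 2 (by rw [hc]; norm_num)
    refine ⟨a, b, fun hab => ?_⟩
    exact hnc a b (by rw [orderOf_coe, ha]) (by rw [orderOf_coe, hb]) (mem_centralizer_singleton_iff.1 (hH a.2))
      (mem_centralizer_singleton_iff.1 (hH b.2)) (congrArg Subtype.val hab)
  refine JThree.nball_of_three h (nb_of_dz2 (by norm_num) (by rw [hcard]; norm_num) hy (k := 6) (w := 2) (k' := 3)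
    (by rw [hC]) hN hk (Fin.cons x g : Fin 13 → S) ?_ ?_ (by norm_num))
  · intro i
    refine Fin.cases ?_ (fun i => ?_) i
    · right
      rw [Fin.cons_zero]
      exact hc15
    · left
      rw [Fin.cons_succ, ho]
      exact JThree.ords_cop i
  · intro i j
    refine Fin.cases ?_ (fun i => ?_) i <;> refine Fin.cases ?_ (fun j => ?_) j
    · intro _
      rfl
    · intro hij
      rw [Fin.cons_zero, Fin.cons_succ] at hij
      exact absurd (order_isConj hij) (ne j)
    · intro hij
      rw [Fin.cons_zero, Fin.cons_succ] at hij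
      exact absurd (order_isConj hij).symm (ne i)
    · intro hij
      rw [Fin.cons_succ, Fin.cons_succ] at hij
      rw [hg i j hij]

end Cfsg.Agent.H57.RIM.JThreeFive
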